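import Cfsg.Agent.Lib.Helper35.Fi22Ord.X0.Data

set_option Elab.async false

namespace Cfsg.Agent.Lib.Helper35.Fi22Ord.X0

open Cfsg.Agent.Lib.Helper35

theorem q1c0 : allBelow (fun k => fq1 (Nat.add 0 k)) 3510 = true := by decide +kernel
theorem q1u0 : ∀ i, i < 3510 → fq1 i = true := below_step fq1 0 3510 3510 (below_zero fq1) q1c0 rfl
theorem m1z : countBelow fm1 0 = 0 := rfl
theorem m1k0 : countBelow (fun k => fm1 (Nat.add 0 k)) 3510 = 3159 := by decide +kernel
theorem m1n0 : countBelow fm1 3510 = 3159 := countBelow_step fm1 0 3510 3510 0 3159 3159 m1z m1k0 rfl rfl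
theorem q2c0 : allBelow (fun k => fq2 (Nat.add 0 k)) 3510 = true := by decide +kernel
theorem q2u0 : ∀ i, i < 3510 → fq2 i = true := below_step fq2 0 3510 3510 (below_zero fq2) q2c0 rfl
theorem m2z : countBelow fm2 0 = 0 := rfl
theorem m2k0 : countBelow (fun k => fm2 (Nat.add 0 k)) 3510 = 288 := by decide +kernel
theorem m2n0 : countBelow fm2 3510 = 288 := countBelow_step fm2 0 3510 3510 0 288 288 m2z m2k0 rfl rfl
theorem q3c0 : allBelow (fun k => fq3 (Nat.add 0 k)) 3510 = true := by decide +kernel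
theorem q3u0 : ∀ i, i < 3510 → fq3 i = true := below_step fq3 0 3510 3510 (below_zero fq3) q3c0 rfl
theorem m3z : countBelow fm3 0 = 0 := rfl
theorem m3k0 : countBelow (fun k => fm3 (Nat.add 0 k)) 3510 = 7 := by decide +kernel
theorem m3n0 : countBelow fm3 3510 = 7 := countBelow_step fm3 0 3510 3510 0 7 7 m3z m3k0 rfl rfl
theorem q4c0 : allBelow (fun k => fq4 (Nat.add 0 k)) 3510 = true := by decide +kernel
theorem q4u0 : ∀ i, i < 3510 → fq4 i = true := below_step fq4 0 3510 3510 (below_zero fq4) q4c0 rfl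
theorem m4z : countBelow fm4 0 = 0 := rfl
theorem m4k0 : countBelow (fun k => fm4 (Nat.add 0 k)) 3510 = 6 := by decide +kernel
theorem m4n0 : countBelow fm4 3510 = 6 := countBelow_step fm4 0 3510 3510 0 6 6 m4z m4k0 rfl rfl
theorem q5c0 : allBelow (fun k => fq5 (Nat.add 0 k)) 3510 = true := by decide +kernel
theorem q5u0 : ∀ i, i < 3510 → fq5 i = true := below_step fq5 0 3510 3510 (below_zero fq5) q5c0 rfl
theorem m5z : countBelow fm5 0 = 0 := rfl
theorem m5k0 : countBelow (fun k => fm5 (Nat.add 0 k)) 3510 = 5 := by decide +kernel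
theorem m5n0 : countBelow fm5 3510 = 5 := countBelow_step fm5 0 3510 3510 0 5 5 m5z m5k0 rfl rfl
theorem q6c0 : allBelow (fun k => fq6 (Nat.add 0 k)) 3510 = true := by decide +kernel
theorem q6u0 : ∀ i, i < 3510 → fq6 i = true := below_step fq6 0 3510 3510 (below_zero fq6) q6c0 rfl
theorem m6z : countBelow fm6 0 = 0 := rfl
theorem m6k0 : countBelow (fun k => fm6 (Nat.add 0 k)) 3510 = 4 := by decide +kernel
theorem m6n0 : countBelow fm6 3510 = 4 := countBelow_step fm6 0 3510 3510 0 4 4 m6z m6k0 rfl rfl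
theorem q7c0 : allBelow (fun k => fq7 (Nat.add 0 k)) 3510 = true := by decide +kernel
theorem q7u0 : ∀ i, i < 3510 → fq7 i = true := below_step fq7 0 3510 3510 (below_zero fq7) q7c0 rfl
theorem m7z : countBelow fm7 0 = 0 := rfl
theorem m7k0 : countBelow (fun k => fm7 (Nat.add 0 k)) 3510 = 3 := by decide +kernel
theorem m7n0 : countBelow fm7 3510 = 3 := countBelow_step fm7 0 3510 3510 0 3 3 m7z m7k0 rfl rfl
theorem q8c0 : allBelow (fun k => fq8 (Nat.add 0 k)) 3510 = true := by decide +kernel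
theorem q8u0 : ∀ i, i < 3510 → fq8 i = true := below_step fq8 0 3510 3510 (below_zero fq8) q8c0 rfl
theorem m8z : countBelow fm8 0 = 0 := rfl
theorem m8k0 : countBelow (fun k => fm8 (Nat.add 0 k)) 3510 = 2 := by decide +kernel
theorem m8n0 : countBelow fm8 3510 = 2 := countBelow_step fm8 0 3510 3510 0 2 2 m8z m8k0 rfl rfl
theorem y0c0 : allBelow (fun k => fy0 (Nat.add 0 k)) 1639 = true := by decide +kernel
theorem y0u0 : ∀ i, i < 1639 → fy0 i = true := below_step fy0 0 1639 1639 (below_zero fy0) y0c0 rfl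
theorem y0c1 : allBelow (fun k => fy0 (Nat.add 1639 k)) 1639 = true := by decide +kernel
theorem y0u1 : ∀ i, i < 3278 → fy0 i = true := below_step fy0 1639 1639 3278 y0u0 y0c1 rfl
theorem y0c2 : allBelow (fun k => fy0 (Nat.add 3278 k)) 232 = true := by decide +kernel
theorem y0u2 : ∀ i, i < 3510 → fy0 i = true := below_step fy0 3278 232 3510 y0u1 y0c2 rfl
theorem y1c0 : allBelow (fun k => fy1 (Nat.add 0 k)) 516 = true := by decide +kernel
theorem y1u0 : ∀ i, i < 516 → fy1 i = true := below_step fy1 0 516 516 (below_zero fy1) y1c0 rfl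
theorem y1c1 : allBelow (fun k => fy1 (Nat.add 516 k)) 516 = true := by decide +kernel
theorem y1u1 : ∀ i, i < 1032 → fy1 i = true := below_step fy1 516 516 1032 y1u0 y1c1 rfl
theorem y1c2 : allBelow (fun k => fy1 (Nat.add 1032 k)) 516 = true := by decide +kernel
theorem y1u2 : ∀ i, i < 1548 → fy1 i = true := below_step fy1 1032 516 1548 y1u1 y1c2 rfl
theorem y1c3 : allBelow (fun k => fy1 (Nat.add 1548 k)) 516 = true := by decide +kernel
theorem y1u3 : ∀ i, i < 2064 → fy1 i = true := below_step fy1 1548 516 2064 y1u2 y1c3 rfl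
theorem y1c4 : allBelow (fun k => fy1 (Nat.add 2064 k)) 516 = true := by decide +kernel
theorem y1u4 : ∀ i, i < 2580 → fy1 i = true := below_step fy1 2064 516 2580 y1u3 y1c4 rfl
theorem y1c5 : allBelow (fun k => fy1 (Nat.add 2580 k)) 516 = true := by decide +kernel
theorem y1u5 : ∀ i, i < 3096 → fy1 i = true := below_step fy1 2580 516 3096 y1u4 y1c5 rfl
theorem y1c6 : allBelow (fun k => fy1 (Nat.add 3096 k)) 414 = true := by decide +kernel
theorem y1u6 : ∀ i, i < 3510 → fy1 i = true := below_step fy1 3096 414 3510 y1u5 y1c6 rfl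

end Cfsg.Agent.Lib.Helper35.Fi22Ord.X0
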